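import Groth.Agent.Lib.TorsorGlue.Cat
import Mathlib.AlgebraicGeometry.Pullbacks
import Mathlib.RingTheory.Flat.Basic
import Mathlib.RingTheory.Flat.Stability

/-!
# Morphisms of affine schemes along an exact covering pair
-/

set_option autoImplicit false
set_option backward.isDefEq.respectTransparency false

universe u

open CategoryTheory MonoidalCategory CartesianMonoidalCategory AlgebraicGeometry
open TensorProduct

namespace GrothLib.TorsorGlue

section Alg

variable {R B₁ B₂ B₁₂ : Type u} [CommRing R] [CommRing B₁] [CommRing B₂] [CommRing B₁₂]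
  [Algebra R B₁] [Algebra R B₂] [Algebra R B₁₂] (q₁ : B₁ →ₐ[R] B₁₂) (q₂ : B₂ →ₐ[R] B₁₂)

/-- `0 → R → B₁ × B₂ → B₁₂` is exact. -/
def CoverExact : Prop :=
  (∀ r : R, algebraMap R B₁ r = 0 → algebraMap R B₂ r = 0 → r = 0) ∧
    ∀ (x₁ : B₁) (x₂ : B₂), q₁ x₁ = q₂ x₂ → ∃ r : R, algebraMap R B₁ r = x₁ ∧ algebraMap R B₂ r = x₂

variable {q₁ q₂}

theorem CoverExact.tensor (hex : CoverExact q₁ q₂) (C : Type u) [AddCommGroup C] [Module R C]
    [Module.Flat R C] :
    (∀ c : C, (1 : B₁) ⊗ₜ[R] c = 0 → (1 : B₂) ⊗ₜ[R] c = 0 → c = 0) ∧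
      ∀ (z₁ : B₁ ⊗[R] C) (z₂ : B₂ ⊗[R] C), q₁.toLinearMap.rTensor C z₁ = q₂.toLinearMap.rTensor C z₂ →
        ∃ c : C, (1 : B₁) ⊗ₜ[R] c = z₁ ∧ (1 : B₂) ⊗ₜ[R] c = z₂ := by
  let ι : R →ₗ[R] B₁ × B₂ := (Algebra.linearMap R B₁).prod (Algebra.linearMap R B₂)
  let δ : B₁ × B₂ →ₗ[R] B₁₂ := q₁.toLinearMap ∘ₗ LinearMap.fst R B₁ B₂ - q₂.toLinearMap ∘ₗ LinearMap.snd R B₁ B₂
  have hι : Function.Injective ι := (injective_iff_map_eq_zero ι).2 fun r h =>
    hex.1 r (congrArg Prod.fst h) (congrArg Prod.snd h)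
  have hexact : Function.Exact ι δ := fun x => by
    constructor
    · intro h
      obtain ⟨r, h₁, h₂⟩ := hex.2 x.1 x.2 (sub_eq_zero.1 h)
      exact ⟨r, Prod.ext h₁ h₂⟩
    · rintro ⟨r, rfl⟩
      show q₁ (algebraMap R B₁ r) - q₂ (algebraMap R B₂ r) = 0
      rw [q₁.commutes, q₂.commutes, sub_self]
  have hιC := Module.Flat.rTensor_preserves_injective_linearMap (M := C) ι hι
  have hexC := Module.Flat.rTensor_exact C hexact
  let e := TensorProduct.prodLeft R R B₁ B₂ C
  have he : ∀ c : C, e (ι.rTensor C ((TensorProduct.lid R C).symm c)) =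
      ((1 : B₁) ⊗ₜ[R] c, (1 : B₂) ⊗ₜ[R] c) := fun c => by
    simp [e, ι, Algebra.linearMap_apply]
  have hδ : ∀ z, δ.rTensor C z = q₁.toLinearMap.rTensor C (e z).1 - q₂.toLinearMap.rTensor C (e z).2 := fun z => by
    induction z with
    | zero => simp
    | tmul x c => obtain ⟨x₁, x₂⟩ := x; simp [e, δ, sub_tmul]
    | add a b ha hb => simp only [map_add, ha, hb, Prod.fst_add, Prod.snd_add]; abel
  refine ⟨fun c h₁ h₂ => ?_, fun z₁ z₂ h => ?_⟩
  · refine (TensorProduct.lid R C).symm.injective (hιC (e.injective ?_))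
    rw [he, h₁, h₂, map_zero, map_zero, map_zero, Prod.mk_zero_zero]
  · obtain ⟨w, hw⟩ := (hexC (e.symm (z₁, z₂))).1 (by rw [hδ, e.apply_symm_apply, h, sub_self])
    have h' := congrArg e hw
    rw [← (TensorProduct.lid R C).symm_apply_apply w, he, e.apply_symm_apply] at h'
    exact ⟨_, congrArg Prod.fst h', congrArg Prod.snd h'⟩

/-- Algebra maps into a flat algebra are compatible pairs of algebra maps. -/
theorem CoverExact.existsUnique_algHom (hex : CoverExact q₁ q₂) {A C : Type u} [CommRing A] [CommRing C]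
    [Algebra R A] [Algebra R C] [Module.Flat R C] (α₁ : A →ₐ[R] B₁ ⊗[R] C) (α₂ : A →ₐ[R] B₂ ⊗[R] C)
    (h : (Algebra.TensorProduct.map q₁ (AlgHom.id R C)).comp α₁ =
      (Algebra.TensorProduct.map q₂ (AlgHom.id R C)).comp α₂) :
    ∃! α : A →ₐ[R] C, Algebra.TensorProduct.includeRight.comp α = α₁ ∧
      Algebra.TensorProduct.includeRight.comp α = α₂ := by
  obtain ⟨hinj, hpull⟩ := hex.tensor C
  have hq : ∀ {B : Type u} [CommRing B] [Algebra R B] (q : B →ₐ[R] B₁₂) (z : B ⊗[R] C),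
      Algebra.TensorProduct.map q (AlgHom.id R C) z = q.toLinearMap.rTensor C z := fun q z => by
    induction z with
    | zero => simp
    | tmul x c => simp
    | add a b ha hb => simp only [map_add, ha, hb]
  have hex' : ∀ a, ∃ c : C, (1 : B₁) ⊗ₜ[R] c = α₁ a ∧ (1 : B₂) ⊗ₜ[R] c = α₂ a := fun a => by
    refine hpull _ _ ?_
    rw [← hq, ← hq]
    exact AlgHom.congr_fun h a
  choose f hf₁ hf₂ using hex'
  have huniq : ∀ (a : A) (c : C), (1 : B₁) ⊗ₜ[R] c = α₁ a → (1 : B₂) ⊗ₜ[R] c = α₂ a → f a = c := fun a c h₁ h₂ =>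
    sub_eq_zero.1 (hinj _ (by rw [tmul_sub, hf₁, h₁, sub_self]) (by rw [tmul_sub, hf₂, h₂, sub_self]))
  let α : A →ₐ[R] C :=
    { toFun := f
      map_one' := huniq 1 1 (by rw [map_one]; rfl) (by rw [map_one]; rfl)
      map_mul' := fun a b => huniq _ _
        (by rw [map_mul, ← hf₁, ← hf₁, Algebra.TensorProduct.tmul_mul_tmul, mul_one])
        (by rw [map_mul, ← hf₂, ← hf₂, Algebra.TensorProduct.tmul_mul_tmul, mul_one])
      map_zero' := huniq 0 0 (by rw [tmul_zero, map_zero]) (by rw [tmul_zero, map_zero])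
      map_add' := fun a b => huniq _ _ (by rw [tmul_add, hf₁, hf₁, map_add]) (by rw [tmul_add, hf₂, hf₂, map_add])
      commutes' := fun r => huniq _ _
        (by rw [α₁.commutes]; exact (Algebra.TensorProduct.includeRight (R := R) (A := B₁) (B := C)).commutes r)
        (by rw [α₂.commutes]; exact (Algebra.TensorProduct.includeRight (R := R) (A := B₂) (B := C)).commutes r) }
  refine ⟨α, ⟨AlgHom.ext hf₁, AlgHom.ext hf₂⟩, fun β hβ => AlgHom.ext fun a => (huniq a (β a) ?_ ?_).symm⟩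
  · exact AlgHom.congr_fun hβ.1 a
  · exact AlgHom.congr_fun hβ.2 a

end Alg

section Bridge

variable (R : Type u) [CommRing R]

/-- The affine scheme of an `R`-algebra, over `Spec R`. -/
noncomputable abbrev Sp (B : Type u) [CommRing B] [Algebra R B] : Over (Spec (CommRingCat.of R)) :=
  Over.mk (Spec.map (CommRingCat.ofHom (algebraMap R B)))

variable {R} {A B C : Type u} [CommRing A] [CommRing B] [CommRing C] [Algebra R A] [Algebra R B] [Algebra R C]

/-- The morphism of affine schemes of an algebra map. -/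
noncomputable def spMap (φ : A →ₐ[R] B) : Sp R B ⟶ Sp R A :=
  Over.homMk (Spec.map (CommRingCat.ofHom φ.toRingHom)) (by
    show Spec.map _ ≫ Spec.map _ = Spec.map _
    rw [← Spec.map_comp, ← CommRingCat.ofHom_comp]
    exact congrArg (fun h => Spec.map (CommRingCat.ofHom h)) φ.comp_algebraMap)

theorem spMap_comp (φ : A →ₐ[R] B) (ψ : B →ₐ[R] C) : spMap (ψ.comp φ) = spMap ψ ≫ spMap φ :=
  Over.OverMorphism.ext (by
    show Spec.map _ = Spec.map _ ≫ Spec.map _
    rw [← Spec.map_comp]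
    rfl)

theorem spMap_id : spMap (AlgHom.id R A) = 𝟙 (Sp R A) := Over.OverMorphism.ext (Spec.map_id _)

theorem spMap_injective : Function.Injective (spMap : (A →ₐ[R] B) → _) := fun φ ψ h => by
  refine AlgHom.ext fun a => ?_
  have h' := Spec.map_injective (congrArg CommaMorphism.left h)
  exact congrArg (fun k => k.hom a) h'

theorem spMap_surjective : Function.Surjective (spMap : (A →ₐ[R] B) → _) := fun f => by
  let φ : CommRingCat.of A ⟶ CommRingCat.of B := Spec.preimage f.left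
  have hw : CommRingCat.ofHom (algebraMap R A) ≫ φ = CommRingCat.ofHom (algebraMap R B) := by
    refine Spec.map_injective ?_
    rw [Spec.map_comp, Spec.map_preimage]
    exact Over.w f
  refine ⟨{ φ.hom with commutes' := fun r => congrArg (fun k => k.hom r) hw }, Over.OverMorphism.ext ?_⟩
  exact (congrArg Spec.map (CommRingCat.hom_ext rfl)).trans (Spec.map_preimage f.left)

theorem isIso_spMap {φ : A →ₐ[R] B} (h : Function.Bijective φ) : IsIso (spMap φ) := by
  let e := AlgEquiv.ofBijective φ h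
  refine ⟨spMap e.symm.toAlgHom, ?_, ?_⟩
  · rw [← spMap_comp, ← spMap_id]
    exact congrArg spMap (AlgHom.ext e.apply_symm_apply)
  · rw [← spMap_comp, ← spMap_id]
    exact congrArg spMap (AlgHom.ext e.symm_apply_apply)

theorem bijective_of_isIso_spMap {φ : A →ₐ[R] B} (h : IsIso (spMap φ)) : Function.Bijective φ := by
  obtain ⟨ψ, hψ⟩ := spMap_surjective (inv (spMap φ))
  have h₁ : φ.comp ψ = AlgHom.id R B := spMap_injective (by rw [spMap_comp, hψ, IsIso.hom_inv_id, spMap_id])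
  have h₂ : ψ.comp φ = AlgHom.id R A := spMap_injective (by rw [spMap_comp, hψ, IsIso.inv_hom_id, spMap_id])
  exact ⟨Function.LeftInverse.injective (g := ψ) (AlgHom.congr_fun h₂),
    Function.RightInverse.surjective (g := ψ) (AlgHom.congr_fun h₁)⟩

/-- The comparison `Spec (B ⊗ C) ⟶ Spec B ×_R Spec C`. -/
noncomputable def spProd (B C : Type u) [CommRing B] [CommRing C] [Algebra R B] [Algebra R C] :
    Sp R (B ⊗[R] C) ⟶ Sp R B ⊗ Sp R C :=
  lift (spMap Algebra.TensorProduct.includeLeft) (spMap Algebra.TensorProduct.includeRight)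

instance isIso_spProd : IsIso (spProd (R := R) B C) := by
  have h : (spProd (R := R) B C).left = (pullbackSpecIso R B C).inv := by
    refine Limits.pullback.hom_ext ?_ ?_
    · refine Eq.trans (congrArg CommaMorphism.left (lift_fst (spMap _) (spMap _))) ?_
      exact (pullbackSpecIso_inv_fst R B C).symm
    · refine Eq.trans (congrArg CommaMorphism.left (lift_snd (spMap _) (spMap _))) ?_
      exact (pullbackSpecIso_inv_snd R B C).symm
  haveI : IsIso ((Over.forget _).map (spProd (R := R) B C)) := by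
    show IsIso (spProd (R := R) B C).left
    rw [h]; infer_instance
  exact isIso_of_reflects_iso _ (Over.forget _)

@[simp, reassoc] theorem spProd_fst :
    spProd B C ≫ fst (Sp R B) (Sp R C) = spMap Algebra.TensorProduct.includeLeft := lift_fst _ _

@[simp, reassoc] theorem spProd_snd :
    spProd B C ≫ snd (Sp R B) (Sp R C) = spMap Algebra.TensorProduct.includeRight := lift_snd _ _

theorem spProd_whiskerRight (q : A →ₐ[R] B) :
    spProd B C ≫ (spMap q ▷ Sp R C) =
      spMap (Algebra.TensorProduct.map q (AlgHom.id R C)) ≫ spProd A C := by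
  refine CartesianMonoidalCategory.hom_ext _ _ ?_ ?_
  · rw [Category.assoc, Category.assoc, whiskerRight_fst, spProd_fst, spProd_fst_assoc, ← spMap_comp,
      ← spMap_comp]
    exact congrArg spMap (AlgHom.ext fun a => by simp)
  · rw [Category.assoc, Category.assoc, whiskerRight_snd, spProd_snd, spProd_snd, ← spMap_comp]
    exact congrArg spMap (AlgHom.ext fun a => by simp)

/-- Affine, with flat coordinate ring. -/
def IsFlatAffine (W : Over (Spec (CommRingCat.of R))) : Prop :=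
  ∃ (C : Type u) (_ : CommRing C) (_ : Algebra R C) (_ : Module.Flat R C), Nonempty (W ≅ Sp R C)

theorem isFlatAffine_sp [Module.Flat R C] : IsFlatAffine (Sp R C) := ⟨C, inferInstance, inferInstance, inferInstance, ⟨Iso.refl _⟩⟩

theorem isFlatAffine_unit : IsFlatAffine (𝟙_ (Over (Spec (CommRingCat.of R)))) :=
  ⟨R, inferInstance, inferInstance, inferInstance, ⟨Over.isoMk (Iso.refl _) (by
    show 𝟙 _ ≫ Spec.map (CommRingCat.ofHom (algebraMap R R)) = _
    rw [Category.id_comp, Algebra.algebraMap_self, CommRingCat.ofHom_id, Spec.map_id]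
    rfl)⟩⟩

theorem IsFlatAffine.tensor {V W : Over (Spec (CommRingCat.of R))} (hV : IsFlatAffine V) (hW : IsFlatAffine W) :
    IsFlatAffine (V ⊗ W) := by
  obtain ⟨A, _, _, _, ⟨eA⟩⟩ := hV
  obtain ⟨C, _, _, _, ⟨eC⟩⟩ := hW
  exact ⟨A ⊗[R] C, inferInstance, inferInstance, inferInstance,
    ⟨(tensorIso eA eC) ≪≫ (asIso (spProd A C)).symm⟩⟩

end Bridge

section Glue

variable {R B₁ B₂ B₁₂ : Type u} [CommRing R] [CommRing B₁] [CommRing B₂] [CommRing B₁₂]
  [Algebra R B₁] [Algebra R B₂] [Algebra R B₁₂] {q₁ : B₁ →ₐ[R] B₁₂} {q₂ : B₂ →ₐ[R] B₁₂}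

theorem glueHom_sp (hex : CoverExact q₁ q₂) (A : Type u) [CommRing A] [Algebra R A]
    (C : Type u) [CommRing C] [Algebra R C] [Module.Flat R C] :
    GlueHom (spMap q₁) (spMap q₂) (Sp R C) (Sp R A) := by
  intro a₁ a₂ h
  obtain ⟨α₁, hα₁⟩ := spMap_surjective (spProd B₁ C ≫ a₁)
  obtain ⟨α₂, hα₂⟩ := spMap_surjective (spProd B₂ C ≫ a₂)
  have hcomp : (Algebra.TensorProduct.map q₁ (AlgHom.id R C)).comp α₁ =
      (Algebra.TensorProduct.map q₂ (AlgHom.id R C)).comp α₂ := spMap_injective (by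
    rw [spMap_comp, spMap_comp, hα₁, hα₂, ← Category.assoc, ← Category.assoc, ← spProd_whiskerRight,
      ← spProd_whiskerRight, Category.assoc, Category.assoc, h])
  obtain ⟨α, ⟨h₁, h₂⟩, huniq⟩ := hex.existsUnique_algHom α₁ α₂ hcomp
  refine ⟨spMap α, ⟨?_, ?_⟩, fun b hb => ?_⟩
  · rw [← cancel_epi (spProd B₁ C), spProd_snd_assoc, ← spMap_comp, h₁, hα₁]
  · rw [← cancel_epi (spProd B₂ C), spProd_snd_assoc, ← spMap_comp, h₂, hα₂]
  · obtain ⟨β, rfl⟩ := spMap_surjective b
    refine congrArg spMap (huniq β ⟨spMap_injective ?_, spMap_injective ?_⟩)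
    · rw [spMap_comp, hα₁, ← hb.1, spProd_snd_assoc]
    · rw [spMap_comp, hα₂, ← hb.2, spProd_snd_assoc]

theorem glueHom_of_isFlatAffine (hex : CoverExact q₁ q₂) {W Y : Over (Spec (CommRingCat.of R))}
    (hW : IsFlatAffine W) (A : Type u) [CommRing A] [Algebra R A] (eY : Y ≅ Sp R A) :
    GlueHom (spMap q₁) (spMap q₂) W Y := by
  obtain ⟨C, _, _, _, ⟨e⟩⟩ := hW
  intro a₁ a₂ h
  obtain ⟨a, ⟨ha₁, ha₂⟩, huniq⟩ := glueHom_sp hex A C ((_ ◁ e.inv) ≫ a₁ ≫ eY.hom) ((_ ◁ e.inv) ≫ a₂ ≫ eY.hom) (by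
    rw [← whisker_exchange_assoc, ← whisker_exchange_assoc, reassoc_of% h])
  refine ⟨e.hom ≫ a ≫ eY.inv, ⟨?_, ?_⟩, fun b hb => ?_⟩
  · rw [← whiskerLeft_snd_assoc, reassoc_of% ha₁]
    simp
  · rw [← whiskerLeft_snd_assoc, reassoc_of% ha₂]
    simp
  · have := huniq (e.inv ≫ b ≫ eY.hom) ⟨by rw [← hb.1]; simp, by rw [← hb.2]; simp⟩
    rw [← this]
    simp

end Glue

end GrothLib.TorsorGlue
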