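import Groth.Prelude.Def_NonAbH2

/-!
# A torsor glued from two trivial torsors along a translation

`U₁ ← U₁₂ → U₂` is a formal covering of the final object, for the morphisms out of a class `P` of
objects, and `g` is a point of the group `G` over `U₁₂`.  If `X` is trivialised over `U₁` and over `U₂`
with transition function the translation by `g`, then `X` is a pseudo-torsor under `G`, and every
section of `X` writes `g` as a product of a point over `U₂` and a point over `U₁`.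
-/

set_option autoImplicit false

universe u

open CategoryTheory MonoidalCategory CartesianMonoidalCategory MonObj GrpObj AlgebraicGeometry

namespace GrothLib.TorsorGlue

variable {S : Scheme.{u}} {G X U₁ U₂ U₁₂ : Over S} (p₁ : U₁₂ ⟶ U₁) (p₂ : U₁₂ ⟶ U₂)

/-- Morphisms `W ⟶ Y` are the compatible pairs of morphisms on the two pieces of the covering. -/
def GlueHom (W Y : Over S) : Prop :=
  ∀ (a₁ : U₁ ⊗ W ⟶ Y) (a₂ : U₂ ⊗ W ⟶ Y), (p₁ ▷ W) ≫ a₁ = (p₂ ▷ W) ≫ a₂ →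
    ∃! a : W ⟶ Y, snd U₁ W ≫ a = a₁ ∧ snd U₂ W ≫ a = a₂

variable {p₁ p₂}

theorem GlueHom.ext {W Y : Over S} (hW : GlueHom p₁ p₂ W Y) {a b : W ⟶ Y}
    (h₁ : ∀ (T : Over S) (_ : T ⟶ U₁) (w : T ⟶ W), w ≫ a = w ≫ b)
    (h₂ : ∀ (T : Over S) (_ : T ⟶ U₂) (w : T ⟶ W), w ≫ a = w ≫ b) : a = b := by
  refine (hW (snd U₁ W ≫ a) (snd U₂ W ≫ a) ?_).unique ⟨rfl, rfl⟩
    ⟨(h₁ _ (fst _ _) (snd _ _)).symm, (h₂ _ (fst _ _) (snd _ _)).symm⟩
  rw [whiskerRight_snd_assoc, whiskerRight_snd_assoc]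

section Chart

variable {U : Over S} {t : U ⊗ G ⟶ X} [IsIso (lift (fst U G) t)]

/-- The inverse chart `U ⊗ X ⟶ G`. -/
noncomputable def chartInv (t : U ⊗ G ⟶ X) [IsIso (lift (fst U G) t)] : U ⊗ X ⟶ G :=
  inv (lift (fst U G) t) ≫ snd U G

theorem chartInv_chart {T : Over S} (u : T ⟶ U) (y : T ⟶ G) :
    lift u (lift u y ≫ t) ≫ chartInv t = y := by
  have h : lift u (lift u y ≫ t) = lift u y ≫ lift (fst U G) t := by rw [comp_lift, lift_fst]
  rw [h, chartInv, Category.assoc, IsIso.hom_inv_id_assoc, lift_snd]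

theorem chart_chartInv {T : Over S} (u : T ⟶ U) (x : T ⟶ X) :
    lift u (lift u x ≫ chartInv t) ≫ t = x := by
  have h : inv (lift (fst U G) t) ≫ t = snd U X := by
    rw [IsIso.inv_comp_eq, lift_snd]
  have h' : inv (lift (fst U G) t) ≫ fst U G = fst U X := by
    rw [IsIso.inv_comp_eq, lift_fst]
  have h2 : lift u x ≫ inv (lift (fst U G) t) = lift u (lift u x ≫ chartInv t) := by
    refine CartesianMonoidalCategory.hom_ext _ _ ?_ ?_
    · rw [Category.assoc, h', lift_fst, lift_fst]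
    · rw [Category.assoc, lift_snd, chartInv]
  rw [← h2, Category.assoc, h, lift_snd]

end Chart

variable [GrpObj G] (P : Over S → Prop)

/-- The torsor glued from two trivial ones along the translation by `g`, and what a section of it gives. -/
theorem exists_action_of_charts (hunit : P (𝟙_ (Over S))) (hG : P G) (hX : P X)
    (hP : ∀ {A B : Over S}, P A → P B → P (A ⊗ B))
    (hglX : ∀ W, P W → GlueHom p₁ p₂ W X) (hglG : ∀ W, P W → GlueHom p₁ p₂ W G)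
    (g : U₁₂ ⟶ G) (t₁ : U₁ ⊗ G ⟶ X) (t₂ : U₂ ⊗ G ⟶ X)
    [IsIso (lift (fst U₁ G) t₁)] [IsIso (lift (fst U₂ G) t₂)]
    (hcompat : ∀ (T : Over S) (w : T ⟶ U₁₂) (y : T ⟶ G),
      lift (w ≫ p₂) y ≫ t₂ = lift (w ≫ p₁) (y * (w ≫ g)) ≫ t₁) :
    ∃ a : AlgGrp.Action G X, NonAbH1.IsPseudoTorsorSch a ∧
      ∀ σ : 𝟙_ (Over S) ⟶ X, ∃ (a₁ : U₁ ⟶ G) (a₂ : U₂ ⟶ G), g = (p₂ ≫ a₂)⁻¹ * (p₁ ≫ a₁) := by
  let s₁ := chartInv t₁
  let s₂ := chartInv t₂
  have hs : ∀ (T : Over S) (w : T ⟶ U₁₂) (x : T ⟶ X),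
      lift (w ≫ p₁) x ≫ s₁ = (lift (w ≫ p₂) x ≫ s₂) * (w ≫ g) := fun T w x => by
    conv_lhs => rw [← chart_chartInv (t := t₂) (w ≫ p₂) x, hcompat]
    exact chartInv_chart _ _
  -- the action
  let b₁ : U₁ ⊗ (G ⊗ X) ⟶ X := lift (fst U₁ (G ⊗ X))
    ((snd U₁ (G ⊗ X) ≫ fst G X) * (lift (fst U₁ (G ⊗ X)) (snd U₁ (G ⊗ X) ≫ snd G X) ≫ s₁)) ≫ t₁
  let b₂ : U₂ ⊗ (G ⊗ X) ⟶ X := lift (fst U₂ (G ⊗ X))
    ((snd U₂ (G ⊗ X) ≫ fst G X) * (lift (fst U₂ (G ⊗ X)) (snd U₂ (G ⊗ X) ≫ snd G X) ≫ s₂)) ≫ t₂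
  obtain ⟨act, ⟨hact₁, hact₂⟩, -⟩ := hglX (G ⊗ X) (hP hG hX) b₁ b₂ (by
    simp only [b₁, b₂, comp_lift_assoc, MonObj.comp_mul, whiskerRight_fst, whiskerRight_snd_assoc,
      whiskerRight_snd]
    rw [hcompat, _root_.mul_assoc, ← hs])
  have key₁ : ∀ (T : Over S) (u : T ⟶ U₁) (h : T ⟶ G) (x : T ⟶ X),
      lift h x ≫ act = lift u (h * (lift u x ≫ s₁)) ≫ t₁ := fun T u h x => by
    refine ((lift_snd_assoc u (lift h x) act).symm.trans (congrArg (lift u (lift h x) ≫ ·) hact₁)).trans ?_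
    simp only [b₁, comp_lift_assoc, MonObj.comp_mul, lift_fst, lift_snd_assoc, lift_snd]
  have key₂ : ∀ (T : Over S) (u : T ⟶ U₂) (h : T ⟶ G) (x : T ⟶ X),
      lift h x ≫ act = lift u (h * (lift u x ≫ s₂)) ≫ t₂ := fun T u h x => by
    refine ((lift_snd_assoc u (lift h x) act).symm.trans (congrArg (lift u (lift h x) ≫ ·) hact₂)).trans ?_
    simp only [b₂, comp_lift_assoc, MonObj.comp_mul, lift_fst, lift_snd_assoc, lift_snd]
  have hone : (η[G] ▷ X) ≫ act = (λ_ X).hom := by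
    refine (hglX _ (hP hunit hX)).ext (fun T u w => ?_) (fun T u w => ?_)
    · have h : w ≫ (η[G] ▷ X) = lift (1 : T ⟶ G) (w ≫ snd _ X) := by
        refine CartesianMonoidalCategory.hom_ext _ _ ?_ ?_
        · rw [lift_fst, Category.assoc, whiskerRight_fst, Hom.one_def, ← Category.assoc]
          exact congrArg (· ≫ η[G]) (toUnit_unique _ _)
        · rw [lift_snd, Category.assoc, whiskerRight_snd]
      rw [reassoc_of% h, key₁ T u, _root_.one_mul, chart_chartInv, leftUnitor_hom]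
    · have h : w ≫ (η[G] ▷ X) = lift (1 : T ⟶ G) (w ≫ snd _ X) := by
        refine CartesianMonoidalCategory.hom_ext _ _ ?_ ?_
        · rw [lift_fst, Category.assoc, whiskerRight_fst, Hom.one_def, ← Category.assoc]
          exact congrArg (· ≫ η[G]) (toUnit_unique _ _)
        · rw [lift_snd, Category.assoc, whiskerRight_snd]
      rw [reassoc_of% h, key₂ T u, _root_.one_mul, chart_chartInv, leftUnitor_hom]
  have hmul : (μ[G] ▷ X) ≫ act = (α_ G G X).hom ≫ (G ◁ act) ≫ act := by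
    have e : ∀ (T : Over S) (w : T ⟶ (G ⊗ G) ⊗ X),
        w ≫ (μ[G] ▷ X) = lift ((w ≫ fst _ _ ≫ fst G G) * (w ≫ fst _ _ ≫ snd G G)) (w ≫ snd _ X) ∧
        w ≫ (α_ G G X).hom ≫ (G ◁ act) =
          lift (w ≫ fst _ _ ≫ fst G G) (lift (w ≫ fst _ _ ≫ snd G G) (w ≫ snd _ X) ≫ act) := fun T w => by
      constructor
      · refine CartesianMonoidalCategory.hom_ext _ _ ?_ ?_
        · rw [lift_fst, Category.assoc, whiskerRight_fst, Hom.mul_def, ← Category.assoc]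
          refine congrArg (· ≫ μ[G]) (CartesianMonoidalCategory.hom_ext _ _ ?_ ?_) <;> simp
        · rw [lift_snd, Category.assoc, whiskerRight_snd]
      · refine CartesianMonoidalCategory.hom_ext _ _ ?_ ?_
        · simp
        · rw [lift_snd, Category.assoc, Category.assoc, whiskerLeft_snd]
          simp only [← Category.assoc]
          refine congrArg (· ≫ act) (CartesianMonoidalCategory.hom_ext _ _ ?_ ?_) <;> simp
    refine (hglX _ (hP (hP hG hG) hX)).ext (fun T u w => ?_) (fun T u w => ?_)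
    · rw [reassoc_of% (e T w).1, reassoc_of% (e T w).2, key₁ T u, key₁ T u, key₁ T u, chartInv_chart,
        _root_.mul_assoc]
    · rw [reassoc_of% (e T w).1, reassoc_of% (e T w).2, key₂ T u, key₂ T u, key₂ T u, chartInv_chart,
        _root_.mul_assoc]
  refine ⟨⟨act, hone, hmul⟩, ?_, fun σ => ?_⟩
  · let d₁ : U₁ ⊗ (X ⊗ X) ⟶ G := (lift (fst _ _) (snd _ _ ≫ fst X X) ≫ s₁) *
      (lift (fst _ _) (snd _ _ ≫ snd X X) ≫ s₁)⁻¹
    let d₂ : U₂ ⊗ (X ⊗ X) ⟶ G := (lift (fst _ _) (snd _ _ ≫ fst X X) ≫ s₂) *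
      (lift (fst _ _) (snd _ _ ≫ snd X X) ≫ s₂)⁻¹
    obtain ⟨d, ⟨hd₁, hd₂⟩, -⟩ := hglG (X ⊗ X) (hP hX hX) d₁ d₂ (by
      simp only [d₁, d₂, comp_lift_assoc, MonObj.comp_mul, GrpObj.comp_inv, whiskerRight_fst,
        whiskerRight_snd_assoc, hs]
      group)
    have dkey₁ : ∀ (T : Over S) (u : T ⟶ U₁) (x y : T ⟶ X),
        lift x y ≫ d = (lift u x ≫ s₁) * (lift u y ≫ s₁)⁻¹ := fun T u x y => by
      refine ((lift_snd_assoc u (lift x y) d).symm.trans (congrArg (lift u (lift x y) ≫ ·) hd₁)).trans ?_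
      simp only [d₁, comp_lift_assoc, MonObj.comp_mul, GrpObj.comp_inv, lift_fst, lift_snd_assoc,
        lift_snd]
    have dkey₂ : ∀ (T : Over S) (u : T ⟶ U₂) (x y : T ⟶ X),
        lift x y ≫ d = (lift u x ≫ s₂) * (lift u y ≫ s₂)⁻¹ := fun T u x y => by
      refine ((lift_snd_assoc u (lift x y) d).symm.trans (congrArg (lift u (lift x y) ≫ ·) hd₂)).trans ?_
      simp only [d₂, comp_lift_assoc, MonObj.comp_mul, GrpObj.comp_inv, lift_fst, lift_snd_assoc,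
        lift_snd]
    refine ⟨⟨lift d (snd X X), CartesianMonoidalCategory.hom_ext _ _ ?_ ?_,
      CartesianMonoidalCategory.hom_ext _ _ ?_ ?_⟩⟩
    · show (lift act (snd G X) ≫ lift d (snd X X)) ≫ fst G X = 𝟙 _ ≫ fst G X
      rw [Category.assoc, lift_fst, Category.id_comp]
      refine (hglG _ (hP hG hX)).ext (fun T u w => ?_) (fun T u w => ?_)
      · rw [comp_lift_assoc, dkey₁ T u, ← lift_comp_fst_snd w, key₁ T u, chartInv_chart]
        simp
      · rw [comp_lift_assoc, dkey₂ T u, ← lift_comp_fst_snd w, key₂ T u, chartInv_chart]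
        simp
    · show (lift act (snd G X) ≫ lift d (snd X X)) ≫ snd G X = 𝟙 _ ≫ snd G X
      rw [Category.assoc, lift_snd, lift_snd, Category.id_comp]
    · show (lift d (snd X X) ≫ lift act (snd G X)) ≫ fst X X = 𝟙 _ ≫ fst X X
      rw [Category.assoc, lift_fst, Category.id_comp]
      refine (hglX _ (hP hX hX)).ext (fun T u w => ?_) (fun T u w => ?_)
      · rw [comp_lift_assoc, key₁ T u, ← lift_comp_fst_snd w, dkey₁ T u]
        simp only [lift_snd, inv_mul_cancel_right, chart_chartInv, lift_fst, s₁]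
      · rw [comp_lift_assoc, key₂ T u, ← lift_comp_fst_snd w, dkey₂ T u]
        simp only [lift_snd, inv_mul_cancel_right, chart_chartInv, lift_fst, s₂]
    · show (lift d (snd X X) ≫ lift act (snd G X)) ≫ snd X X = 𝟙 _ ≫ snd X X
      rw [Category.assoc, lift_snd, lift_snd, Category.id_comp]
  · let a₁ : U₁ ⟶ G := lift (𝟙 U₁) (toUnit U₁ ≫ σ) ≫ s₁
    let a₂ : U₂ ⟶ G := lift (𝟙 U₂) (toUnit U₂ ≫ σ) ≫ s₂
    refine ⟨a₁, a₂, eq_inv_mul_iff_mul_eq.2 ?_⟩
    have h := hs U₁₂ (𝟙 _) (toUnit U₁₂ ≫ σ)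
    simp only [Category.id_comp] at h
    have e₁ : p₁ ≫ a₁ = lift p₁ (toUnit U₁₂ ≫ σ) ≫ s₁ := by
      rw [comp_lift_assoc, Category.comp_id, reassoc_of% (comp_toUnit p₁)]
    have e₂ : p₂ ≫ a₂ = lift p₂ (toUnit U₁₂ ≫ σ) ≫ s₂ := by
      rw [comp_lift_assoc, Category.comp_id, reassoc_of% (comp_toUnit p₂)]
    rw [e₁, e₂, h]

end GrothLib.TorsorGlue
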