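import Groth.Agent.Lib.Glue.RingBase
import Groth.Agent.Lib.Glue.FlatDescent
import Groth.Agent.Lib.Glue.Descent
import Groth.Agent.S2002

/-!
# The algebra glued from two copies of `H` along an automorphism over the overlap
-/

set_option autoImplicit false

universe u

open TensorProduct

namespace GrothLib.TorsorGlue

variable {R S T Rf H : Type u} [CommRing R] [CommRing S] [CommRing T] [CommRing Rf] [CommRing H]
  [Algebra R S] [Algebra R T] [Algebra S T] [IsScalarTower R S T] [Algebra R Rf] [Algebra R H] {f : R}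

theorem isLocalizedModule_toAlgHom [IsLocalization.Away (algebraMap R S f) T] :
    IsLocalizedModule (Submonoid.powers f) (IsScalarTower.toAlgHom R S T).toLinearMap := by
  rw [isLocalizedModule_iff_isLocalization, Algebra.algebraMapSubmonoid_powers]
  infer_instance

theorem exists_pow_smul_mem_range [IsLocalization.Away (algebraMap R S f) T] (z : T ⊗[R] H) :
    ∃ (k : ℕ) (x : S ⊗[R] H), f ^ k • z = Algebra.TensorProduct.map (IsScalarTower.toAlgHom R S T) (AlgHom.id R H) x := by
  haveI := isLocalizedModule_toAlgHom (R := R) (S := S) (T := T) (f := f)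
  obtain ⟨⟨x, ⟨_, k, rfl⟩⟩, hx⟩ := IsLocalizedModule.surj (Submonoid.powers f)
    (AlgebraTensorModule.rTensor R H (IsScalarTower.toAlgHom R S T).toLinearMap) z
  exact ⟨k, x, hx⟩

theorem isTors_of_map_eq_zero [IsLocalization.Away (algebraMap R S f) T] {x : S ⊗[R] H}
    (hx : Algebra.TensorProduct.map (IsScalarTower.toAlgHom R S T) (AlgHom.id R H) x = 0) :
    Groth.Agent.Glue.IsTors f x := by
  haveI := isLocalizedModule_toAlgHom (R := R) (S := S) (T := T) (f := f)
  obtain ⟨⟨_, k, rfl⟩, hk⟩ := (IsLocalizedModule.eq_zero_iff (Submonoid.powers f)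
    (AlgebraTensorModule.rTensor R H (IsScalarTower.toAlgHom R S T).toLinearMap)).1
    (show AlgebraTensorModule.rTensor R H (IsScalarTower.toAlgHom R S T).toLinearMap x = 0 from hx)
  exact ⟨k, hk⟩

attribute [local instance] Algebra.TensorProduct.rightAlgebra in
/-- `S ⊗ (R_f ⊗ H) ≅ S_f ⊗ H`. -/
theorem exists_theta [IsLocalization.Away f Rf] [IsLocalization.Away (algebraMap R S f) T] (q₁ : Rf →ₐ[R] T) :
    ∃ θ : S ⊗[R] (Rf ⊗[R] H) ≃ₗ[S] T ⊗[R] H,
      ∀ z, θ ((1 : S) ⊗ₜ[R] z) = Algebra.TensorProduct.map q₁ (AlgHom.id R H) z := by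
  haveI : IsLocalization.Away (algebraMap R S f) (S ⊗[R] Rf) := by
    show IsLocalization (Submonoid.powers (algebraMap R S f)) (S ⊗[R] Rf)
    rw [← Algebra.algebraMapSubmonoid_powers]
    infer_instance
  let e : S ⊗[R] Rf ≃ₐ[S] T := IsLocalization.algEquiv (Submonoid.powers (algebraMap R S f)) _ _
  have he : ∀ y : Rf, e ((1 : S) ⊗ₜ[R] y) = q₁ y := fun y =>
    RingHom.congr_fun (IsLocalization.ringHom_ext (Submonoid.powers f)
      (j := (e.toAlgHom.restrictScalars R).toRingHom.comp
        (Algebra.TensorProduct.includeRight (R := R) (A := S) (B := Rf)).toRingHom)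
      (k := q₁.toRingHom) (RingHom.ext fun r => by
        show e ((1 : S) ⊗ₜ[R] algebraMap R Rf r) = q₁ (algebraMap R Rf r)
        rw [q₁.commutes]
        exact (congrArg e ((Algebra.TensorProduct.includeRight (R := R) (A := S) (B := Rf)).commutes r)).trans
          ((e.toAlgHom.restrictScalars R).commutes r))) y
  refine ⟨(AlgebraTensorModule.assoc R R S S Rf H).symm.trans (AlgebraTensorModule.congr e.toLinearEquiv
    (LinearEquiv.refl R H)), fun z => ?_⟩
  induction z with
  | zero => simp
  | tmul y h => simp [he]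
  | add a b ha hb => rw [tmul_add, map_add, ha, hb, map_add]

/-- The glued algebra. -/
theorem exists_glued (hRR : EtGlue.IsGlueingPair R S f) [IsLocalization.Away f Rf]
    [IsLocalization.Away (algebraMap R S f) T] [Module.Flat R H] [Algebra.FinitePresentation R H]
    (q₁ : Rf →ₐ[R] T) (τ : T ⊗[R] H ≃ₐ[R] T ⊗[R] H) (hτ : ∀ x : T, τ (x ⊗ₜ 1) = x ⊗ₜ 1) :
    ∃ (A : Type u) (_ : CommRing A) (_ : Algebra R A) (_ : Module.Flat R A) (_ : Algebra.FinitePresentation R A)
      (π₁ : A →ₐ[R] Rf ⊗[R] H) (π₂ : A →ₐ[R] S ⊗[R] H),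
      (Algebra.TensorProduct.map (IsScalarTower.toAlgHom R S T) (AlgHom.id R H)).comp π₂ =
        τ.toAlgHom.comp ((Algebra.TensorProduct.map q₁ (AlgHom.id R H)).comp π₁) ∧
      Function.Bijective (Algebra.TensorProduct.lift (Algebra.TensorProduct.includeLeft : Rf →ₐ[R] Rf ⊗[R] H) π₁
        fun _ _ => Commute.all _ _) ∧
      Function.Bijective (Algebra.TensorProduct.lift (Algebra.TensorProduct.includeLeft : S →ₐ[R] S ⊗[R] H) π₂
        fun _ _ => Commute.all _ _) := by
  let ι₂ := Algebra.TensorProduct.map (IsScalarTower.toAlgHom R S T) (AlgHom.id R H)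
  let ι₁ := Algebra.TensorProduct.map q₁ (AlgHom.id R H)
  let A : Subalgebra R ((S ⊗[R] H) × (Rf ⊗[R] H)) :=
    AlgHom.equalizer (ι₂.comp (AlgHom.fst R _ _)) ((τ.toAlgHom.comp ι₁).comp (AlgHom.snd R _ _))
  let π₂ : A →ₐ[R] S ⊗[R] H := (AlgHom.fst R _ _).comp A.val
  let π₁ : A →ₐ[R] Rf ⊗[R] H := (AlgHom.snd R _ _).comp A.val
  obtain ⟨θ, hθ⟩ := exists_theta (S := S) (H := H) (f := f) q₁
  have hτS : ∀ (s : S) (z : T ⊗[R] H), τ.symm (s • z) = s • τ.symm z := fun s z => by
    refine τ.injective ?_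
    rw [τ.apply_symm_apply, Algebra.smul_def, Algebra.smul_def, map_mul, τ.apply_symm_apply,
      IsScalarTower.algebraMap_apply S T (T ⊗[R] H), Algebra.TensorProduct.algebraMap_apply,
      Algebra.algebraMap_self_apply, hτ]
  let L : S ⊗[R] H →ₗ[S] S ⊗[R] (Rf ⊗[R] H) :=
    { toFun := fun x => θ.symm (τ.symm (ι₂ x))
      map_add' := fun a b => by rw [map_add, map_add, map_add]
      map_smul' := fun s x => by
        have : ι₂ (s • x) = s • ι₂ x := by
          induction x with
          | zero => simp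
          | tmul a h =>
            rw [smul_tmul']
            show algebraMap S T (s • a) ⊗ₜ[R] h = s • (algebraMap S T a ⊗ₜ[R] h)
            rw [smul_tmul', Algebra.smul_def, Algebra.smul_def, map_mul, Algebra.algebraMap_self_apply]
          | add a b ha hb => rw [smul_add, map_add, map_add, smul_add, ha, hb]
        rw [this, hτS, map_smul]
        rfl }
  have hG : Groth.Agent.Glue.IsGlued f π₂.toLinearMap π₁.toLinearMap L :=
    { bij := by
        have hu : IsUnit (algebraMap R (Rf ⊗[R] H) f) := by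
          rw [IsScalarTower.algebraMap_apply R Rf (Rf ⊗[R] H)]
          exact (IsLocalization.Away.algebraMap_isUnit f).map _
        have : (fun x : Rf ⊗[R] H => f • x) = fun x => algebraMap R (Rf ⊗[R] H) f * x :=
          funext fun x => Algebra.smul_def f x
        rw [this]
        exact IsUnit.isUnit_iff_mulLeft_bijective.mp hu
      surj := fun z => by
        obtain ⟨k, x, hx⟩ := exists_pow_smul_mem_range (S := S) (f := f) (τ (θ z))
        refine ⟨k, x, ?_⟩
        show f ^ k • z = θ.symm (τ.symm (ι₂ x))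
        rw [← hx, map_smul, AlgEquiv.symm_apply_apply, ← algebraMap_smul S (f ^ k) (θ z), map_smul,
          algebraMap_smul, LinearEquiv.symm_apply_apply]
      ker := fun x hx => isTors_of_map_eq_zero (T := T) (f := f)
        (τ.symm.injective ((θ.symm.injective (hx.trans (map_zero θ.symm).symm)).trans (map_zero τ.symm).symm))
      comm := fun m => by
        show θ.symm (τ.symm (ι₂ m.1.1)) = (1 : S) ⊗ₜ[R] m.1.2
        rw [LinearEquiv.symm_apply_eq, hθ, show ι₂ m.1.1 = τ (ι₁ m.1.2) from m.2, τ.symm_apply_apply]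
      inj := fun m h1 h2 => Subtype.ext (Prod.ext h1 h2)
      pull := fun x y hxy => by
        have h : θ.symm (τ.symm (ι₂ x)) = (1 : S) ⊗ₜ[R] y := hxy
        rw [LinearEquiv.symm_apply_eq, hθ] at h
        exact ⟨⟨(x, y), by show ι₂ x = τ (ι₁ y); rw [← τ.apply_symm_apply (ι₂ x), h]⟩, rfl, rfl⟩ }
  have hb₂ := hG.bijective_liftBaseChange hRR
  haveI hloc := hG.isLocalizedModule
  have hb₁ : Function.Bijective (π₁.toLinearMap.liftBaseChange Rf) :=
    IsLocalizedModule.isBaseChange (Submonoid.powers f) Rf π₁.toLinearMap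
  have hβ : ∀ {B : Type u} [CommRing B] [Algebra R B] (π : A →ₐ[R] B ⊗[R] H),
      (Algebra.TensorProduct.lift (Algebra.TensorProduct.includeLeft : B →ₐ[R] B ⊗[R] H) π
        fun _ _ => Commute.all _ _ : B ⊗[R] A → B ⊗[R] H) = π.toLinearMap.liftBaseChange B := fun π =>
    funext fun z => by
      induction z with
      | zero => simp
      | tmul s a => simp [Algebra.smul_def, Algebra.TensorProduct.algebraMap_apply]
      | add a b ha hb => simp only [map_add, ha, hb]
  have hB₁ : Function.Bijective (Algebra.TensorProduct.lift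
      (Algebra.TensorProduct.includeLeft : Rf →ₐ[R] Rf ⊗[R] H) π₁ fun _ _ => Commute.all _ _) := by
    rw [hβ]; exact hb₁
  have hB₂ : Function.Bijective (Algebra.TensorProduct.lift
      (Algebra.TensorProduct.includeLeft : S →ₐ[R] S ⊗[R] H) π₂ fun _ _ => Commute.all _ _) := by
    rw [hβ]; exact hb₂
  let e₂ : S ⊗[R] A ≃ₐ[S] S ⊗[R] H := AlgEquiv.ofBijective (Algebra.TensorProduct.lift
      (Algebra.TensorProduct.includeLeft : S →ₐ[S] S ⊗[R] H) π₂ fun _ _ => Commute.all _ _) hB₂
  let e₁ : Rf ⊗[R] A ≃ₐ[Rf] Rf ⊗[R] H := AlgEquiv.ofBijective (Algebra.TensorProduct.lift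
      (Algebra.TensorProduct.includeLeft : Rf →ₐ[Rf] Rf ⊗[R] H) π₁ fun _ _ => Commute.all _ _) hB₁
  haveI : Module.Flat R A := (Groth.Agent.S2002.result R S f hRR A).2 ⟨
    Module.Flat.of_linearEquiv e₂.toLinearEquiv, by
      haveI := IsLocalization.flat Rf (Submonoid.powers f)
      haveI : Module.Flat R (LocalizedModule (Submonoid.powers f) A) :=
        Module.Flat.of_linearEquiv (IsLocalizedModule.iso (Submonoid.powers f) π₁.toLinearMap)
      exact (Module.flat_iff_of_isLocalization (Localization.Away f) (Submonoid.powers f) _).2 inferInstance⟩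
  haveI : Algebra.FinitePresentation S (S ⊗[R] A) := Algebra.FinitePresentation.equiv e₂.symm
  haveI : Algebra.FinitePresentation Rf (Rf ⊗[R] A) := Algebra.FinitePresentation.equiv e₁.symm
  haveI : Algebra.FinitePresentation R A := Groth.Agent.Glue.finitePresentation_of_tensor hRR.1 Rf
  exact ⟨A, inferInstance, inferInstance, inferInstance, inferInstance, π₁, π₂,
    AlgHom.ext fun a => a.2, hB₁, hB₂⟩

end GrothLib.TorsorGlue
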